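import Groth.Prelude.Def_RegImm
import Groth.Agent.LCI.RegularIdeal
import Groth.Agent.VarDim.Algebra
import Mathlib.RingTheory.Localization.Away.AdjoinRoot
import Mathlib.RingTheory.Localization.Algebra
import Mathlib.RingTheory.KrullDimension.Regular
import Mathlib.RingTheory.Regular.Flat
import Mathlib.RingTheory.Extension.Cotangent.Basic
import Groth.Agent.GrSyz.ProjDim

/-!
# Algebras with projective conormal module over a field are local complete intersections
-/

set_option autoImplicit false

universe u

open MvPolynomial RingTheory.Sequence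

namespace Groth.Agent.GrpScheme.Syntomic.Algebra

variable (k : Type u) [Field k]

/-- `k[x₀, …, xₙ]` maps onto the localization at `g` of `k[x₁, …, xₙ]`. -/
theorem exists_psi (n : ℕ) (g : MvPolynomial (Fin n) k) :
    ∃ (ψ : MvPolynomial (Fin (n + 1)) k →ₐ[k] Localization.Away g) (h : MvPolynomial (Fin (n + 1)) k),
      Function.Surjective ψ ∧ RingHom.ker ψ.toRingHom = Ideal.span {h} := by
  let pol : Polynomial (MvPolynomial (Fin n) k) := Polynomial.C g * Polynomial.X - 1
  let e := MvPolynomial.finSuccEquiv k n
  let a : AdjoinRoot pol ≃ₐ[k] Localization.Away g :=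
    ((Localization.awayEquivAdjoin g).restrictScalars k).symm
  let m : Polynomial (MvPolynomial (Fin n) k) →ₐ[k] AdjoinRoot pol :=
    (Ideal.Quotient.mkₐ k (Ideal.span {pol}))
  refine ⟨(a.toAlgHom.comp m).comp e.toAlgHom, e.symm pol,
    (a.surjective.comp Ideal.Quotient.mk_surjective).comp e.surjective, ?_⟩
  ext z
  rw [RingHom.mem_ker, Ideal.mem_span_singleton]
  change a (m (e z)) = 0 ↔ _
  rw [EmbeddingLike.map_eq_zero_iff]
  change Ideal.Quotient.mk (Ideal.span {pol}) (e z) = 0 ↔ _
  rw [Ideal.Quotient.eq_zero_iff_mem, Ideal.mem_span_singleton]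
  constructor
  · intro hd
    simpa using map_dvd e.symm hd
  · intro hd
    simpa using map_dvd e hd

/-- The quotient of a localized polynomial ring by a regular sequence of length `c` has dimension
`n - c`. -/
theorem ringKrullDim_quotient_ofList (n : ℕ) (g : MvPolynomial (Fin n) k)
    (rs : List (Localization.Away g)) (hrs : IsRegular (Localization.Away g) rs) :
    rs.length ≤ n ∧
      ringKrullDim (Localization.Away g ⧸ Ideal.ofList rs) = ((n - rs.length : ℕ) : WithBot ℕ∞) := by
  have hnt : Nontrivial (Localization.Away g) := by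
    by_contra hc
    rw [not_nontrivial_iff_subsingleton] at hc
    exact hrs.top_ne_smul (Submodule.ext fun x => by simp [Subsingleton.elim x 0])
  set J := Ideal.ofList rs with hJdef
  have hJ : J ≠ ⊤ := fun h => hrs.top_ne_smul (by rw [← hJdef, h, Submodule.top_smul])
  have : Nontrivial (Localization.Away g ⧸ J) := Ideal.Quotient.nontrivial_iff.2 hJ
  have : Algebra.FiniteType k (Localization.Away g) :=
    .trans (S := MvPolynomial (Fin n) k) inferInstance inferInstance
  have : IsJacobsonRing (Localization.Away g) :=
    isJacobsonRing_of_finiteType (A := k)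
  have hht : ∀ Q : Ideal (Localization.Away g), Q.IsMaximal → Q.height = n := by
    intro Q hQ
    have hmax : (Q.under (MvPolynomial (Fin n) k)).IsMaximal := by
      have := (IsLocalization.isMaximal_iff_isMaximal_disjoint (Localization.Away g) g Q).1 hQ
      exact this.1
    rw [← VarDim.height_eq_of_isMaximal_mvPolynomial k n (Q.under _),
      IsLocalization.height_under (Submonoid.powers g)]
    exact hmax
  have key : ∀ Q : Ideal (Localization.Away g), Q.IsMaximal → J ≤ Q →
      ∀ q : Ideal (Localization.Away g ⧸ J), q = Q.map (Ideal.Quotient.mk J) →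
      (q.height : WithBot ℕ∞) + rs.length = n := by
    intro Q hQ hJQ q hq
    let SQ := Localization.AtPrime Q
    let rQ := rs.map (algebraMap (Localization.Away g) SQ)
    have hmem : ∀ r ∈ rQ, r ∈ IsLocalRing.maximalIdeal SQ := by
      intro r hr
      obtain ⟨y, hy, rfl⟩ := List.mem_map.1 hr
      rw [IsLocalization.AtPrime.to_map_mem_maximal_iff SQ Q]
      exact hJQ (Ideal.subset_span hy)
    have hreg : IsRegular SQ rQ :=
      (IsLocalRing.isRegular_iff_isWeaklyRegular_of_subset_maximalIdeal hmem).2
        (hrs.toIsWeaklyRegular.of_flat (S := SQ))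
    have hd := ringKrullDim_add_length_eq_ringKrullDim_of_isRegular rQ hreg
    have hqp : q.IsPrime := hq ▸ Ideal.map_isPrime_of_surjective Ideal.Quotient.mk_surjective
      (by rwa [Ideal.mk_ker])
    have hcom : q.comap (Ideal.Quotient.mk J) = Q := by
      rw [hq, Ideal.comap_map_of_surjective' _ Ideal.Quotient.mk_surjective, Ideal.mk_ker]
      exact sup_eq_left.2 hJQ
    have e : Localization.AtPrime q ≃+* SQ ⧸ Ideal.ofList rQ := by
      have hmapq : Submonoid.map (Ideal.Quotient.mk J).toMonoidHom Q.primeCompl = q.primeCompl := by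
        ext z
        obtain ⟨z, rfl⟩ := Ideal.Quotient.mk_surjective z
        constructor
        · rintro ⟨w, hw, hwz⟩ hz
          exact hw (hcom ▸ (show Ideal.Quotient.mk J w ∈ q from hwz ▸ hz))
        · exact fun hz => ⟨z, fun h => hz (Ideal.mem_comap.1 (hcom.symm ▸ h :)), rfl⟩
      have heq : Ideal.ofList rQ = J.map (algebraMap (Localization.Away g) SQ) := by
        rw [Ideal.map_ofList]
      let φ : SQ →+* Localization.AtPrime q :=
        IsLocalization.map _ (Ideal.Quotient.mk J)
          (show Q.primeCompl ≤ q.primeCompl.comap (Ideal.Quotient.mk J) from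
            Submonoid.map_le_iff_le_comap.1 hmapq.le)
      have hker : RingHom.ker φ = J.map (algebraMap (Localization.Away g) SQ) := by
        rw [IsLocalization.ker_map (S := SQ) (Localization.AtPrime q) (Ideal.Quotient.mk J) hmapq,
          Ideal.mk_ker]
      have : IsLocalization (Submonoid.map (Ideal.Quotient.mk J) Q.primeCompl)
          (Localization.AtPrime q) :=
        hmapq.symm ▸ inferInstance
      have hsurj : Function.Surjective φ :=
        IsLocalization.map_surjective_of_surjective _ _ _ Ideal.Quotient.mk_surjective
      exact ((Ideal.quotEquivOfEq (heq.trans hker.symm)).trans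
        (RingHom.quotientKerEquivOfSurjective hsurj)).symm
    rw [← IsLocalization.AtPrime.ringKrullDim_eq_height q (Localization.AtPrime q),
      ringKrullDim_eq_of_ringEquiv (R := Localization.AtPrime q) (S := SQ ⧸ Ideal.ofList rQ) e]
    have hl : rQ.length = rs.length := List.length_map ..
    rw [← hl, hd, IsLocalization.AtPrime.ringKrullDim_eq_height Q SQ, hht Q hQ]
    rfl
  obtain ⟨q₀, hq₀⟩ := Ideal.exists_maximal (Localization.Away g ⧸ J)
  have hpre : ∀ q : Ideal (Localization.Away g ⧸ J), q.IsMaximal →
      (q.height : WithBot ℕ∞) + rs.length = n := fun q hq =>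
    key _ (Ideal.comap_isMaximal_of_surjective _ Ideal.Quotient.mk_surjective)
      (fun x hx => by simp [Ideal.mem_comap, Ideal.Quotient.eq_zero_iff_mem.2 hx]) q
      (Ideal.map_comap_of_surjective _ Ideal.Quotient.mk_surjective q).symm
  have hval : ∀ q : Ideal (Localization.Away g ⧸ J), q.IsMaximal →
      rs.length ≤ n ∧ q.height = ((n - rs.length : ℕ) : ℕ∞) := by
    intro q hq
    have h := hpre q hq
    have h' : q.height + (rs.length : ℕ∞) = (n : ℕ∞) := by exact_mod_cast h
    obtain ⟨m, hm⟩ := ENat.ne_top_iff_exists.1
      (show q.height ≠ ⊤ from fun ht => by simp [ht] at h')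
    rw [← hm] at h' ⊢
    norm_cast at h' ⊢
    omega
  refine ⟨(hval q₀ hq₀).1, le_antisymm ?_ ?_⟩
  · rw [ringKrullDim_le_iff_isMaximal_height_le]
    exact fun q hq => by rw [(hval q hq).2]; rfl
  · have := Ideal.height_le_ringKrullDim_of_ne_top hq₀.ne_top
    rw [(hval q₀ hq₀).2] at this
    exact this

/-- An algebra presented over a field with projective conormal module is a local complete
intersection. -/
theorem isLCIOver_of_projective (n : ℕ) {A : Type u} [CommRing A] [Algebra k A]
    (φ : MvPolynomial (Fin n) k →ₐ[k] A) (hφ : Function.Surjective φ)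
    [Module.Projective (MvPolynomial (Fin n) k ⧸ RingHom.ker φ.toRingHom)
      (RingHom.ker φ.toRingHom).Cotangent] :
    Synt.IsLCIOver k A := by
  refine ⟨Algebra.FiniteType.of_surjective φ hφ, fun p => ?_⟩
  set R := MvPolynomial (Fin n) k
  set I := RingHom.ker φ.toRingHom with hI
  obtain ⟨d, hpd⟩ : ∃ d, CategoryTheory.HasProjectiveDimensionLE (ModuleCat.of R I) d := by
    exact ⟨n, GrSyz.pd_mvPolynomial n I⟩
  let P : Ideal R := p.asIdeal.comap φ.toRingHom
  have hIP : I ≤ P := fun x hx => by
    rw [Ideal.mem_comap, RingHom.mem_ker.1 hx]; exact zero_mem _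
  obtain ⟨g, hgP, rs, hrs, hJ⟩ := LCI.RegularIdeal.exists_away_regular I d hpd P hIP
  refine ⟨φ g, hgP, Or.inr ?_⟩
  obtain ⟨hc, hdim⟩ := ringKrullDim_quotient_ofList k n g rs hrs
  obtain ⟨ψ, h, hψ, hkerψ⟩ := exists_psi k n g
  have hmap : Submonoid.map φ.toRingHom.toMonoidHom (Submonoid.powers g) =
      Submonoid.powers (φ g) := Submonoid.map_powers _ g
  let χ : Localization.Away g →ₐ[k] Localization.Away (φ g) :=
    { IsLocalization.map (Localization.Away (φ g)) φ.toRingHom
        (Submonoid.map_le_iff_le_comap.1 hmap.le) with
      commutes' := fun r => by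
        change IsLocalization.map _ φ.toRingHom _ (algebraMap k (Localization.Away g) r) = _
        rw [IsScalarTower.algebraMap_apply k R (Localization.Away g), IsLocalization.map_eq]
        change algebraMap A _ (φ (algebraMap k R r)) = _
        rw [φ.commutes, ← IsScalarTower.algebraMap_apply] }
  have : IsLocalization (Submonoid.map φ.toRingHom (Submonoid.powers g))
      (Localization.Away (φ g)) :=
    hmap.symm ▸ inferInstance
  have hχ : Function.Surjective χ :=
    IsLocalization.map_surjective_of_surjective _ _ _ hφ
  have hkerχ : RingHom.ker χ.toRingHom = Ideal.ofList rs :=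
    (IsLocalization.ker_map (S := Localization.Away g) (Localization.Away (φ g))
      φ.toRingHom hmap).trans hJ.symm
  choose F hF using fun i : Fin rs.length => hψ (rs.get i)
  have hspan : (Ideal.span (Set.range F)).map ψ.toRingHom = Ideal.ofList rs := by
    rw [Ideal.map_span, ← Set.range_comp, Ideal.ofList]
    congr 1
    ext z
    simp only [Set.mem_range, Function.comp_apply]
    exact ⟨fun ⟨i, hi⟩ => hi ▸ (hF i).symm ▸ List.get_mem rs i,
      fun hz => by
        obtain ⟨i, rfl⟩ := List.get_of_mem hz
        exact ⟨i, hF i⟩⟩
  refine ⟨n + 1, rs.length + 1, by omega, χ.comp ψ, Fin.cons h F, hχ.comp hψ, ?_, ?_⟩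
  · rw [Fin.range_cons, Ideal.span_insert, sup_comm, ← hkerψ]
    change RingHom.ker (χ.toRingHom.comp ψ.toRingHom) = _
    rw [← RingHom.comap_ker, hkerχ, ← hspan]
    exact Ideal.comap_map_of_surjective' _ hψ _
  · rw [← ringKrullDim_eq_of_ringEquiv
      (RingHom.quotientKerEquivOfSurjective (f := χ.toRingHom) hχ),
      ringKrullDim_eq_of_ringEquiv (Ideal.quotEquivOfEq hkerχ), hdim, Nat.add_sub_add_right]

/-- Splitting: if `H₁` and the Kähler differentials are projective then so is the conormal. -/
theorem projective_cotangent {A : Type u} [CommRing A] [Algebra k A] {ι : Type}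
    (P : Algebra.Generators k A ι) [Module.Projective A (Algebra.H1Cotangent k A)]
    [Module.Projective A (Ω[A⁄k])] :
    Module.Projective A P.toExtension.Cotangent := by
  let E := P.toExtension
  obtain ⟨s, hs⟩ := Module.projective_lifting_property E.toKaehler LinearMap.id
    E.toKaehler_surjective
  let M := LinearMap.range E.cotangentComplex
  have hM : Module.Projective A M := by
    let p : E.CotangentSpace →ₗ[A] M := (LinearMap.id - s.comp E.toKaehler).codRestrict M fun x => by
      change _ ∈ LinearMap.range E.cotangentComplex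
      rw [← E.exact_cotangentComplex_toKaehler.linearMap_ker_eq, LinearMap.mem_ker]
      simpa using sub_eq_zero.2 (LinearMap.congr_fun hs (E.toKaehler x)).symm
    refine Module.Projective.of_split M.subtype p (LinearMap.ext fun x => Subtype.ext ?_)
    have : E.toKaehler x.1 = 0 := by
      obtain ⟨y, hy⟩ := x.2
      rw [← hy]; exact E.exact_cotangentComplex_toKaehler.apply_apply_eq_zero y
    simp [p, this]
  have : Module.Projective A E.H1Cotangent :=
    Module.Projective.of_equiv P.equivH1Cotangent.symm
  obtain ⟨t, ht⟩ := Module.projective_lifting_property E.cotangentComplex.rangeRestrict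
    LinearMap.id E.cotangentComplex.surjective_rangeRestrict
  let q : E.Cotangent →ₗ[A] E.H1Cotangent :=
    LinearMap.codRestrict _ (LinearMap.id - t.comp E.cotangentComplex.rangeRestrict) fun x => by
      change E.cotangentComplex _ = 0
      have := congrArg Subtype.val (LinearMap.congr_fun ht (E.cotangentComplex.rangeRestrict x))
      simpa using sub_eq_zero.2 this.symm
  refine Module.Projective.of_split (LinearMap.prod q E.cotangentComplex.rangeRestrict)
    (LinearMap.coprod E.h1Cotangentι t) (LinearMap.ext fun x => ?_)
  simp only [q, LinearMap.comp_apply, LinearMap.coprod_apply, LinearMap.prod_apply]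
  change (x - t (E.cotangentComplex.rangeRestrict x)) + t _ = x
  exact sub_add_cancel _ _

/-- A finite type algebra over a field with projective `H₁` and differentials is a local complete
intersection. -/
theorem isLCIOver (A : Type u) [CommRing A] [Algebra k A] [hft : Algebra.FiniteType k A]
    [Module.Projective A (Algebra.H1Cotangent k A)] [Module.Projective A (Ω[A⁄k])] :
    Synt.IsLCIOver k A := by
  obtain ⟨n, φ, hφ⟩ := Algebra.FiniteType.iff_quotient_mvPolynomial''.1 hft
  let P : Algebra.Generators k A (Fin n) :=
    Algebra.Generators.ofSurjective (fun i => φ (X i)) (by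
      rwa [show aeval (R := k) (fun i => φ (X i)) = φ from by ext i; simp])
  have hP : Module.Projective A P.toExtension.Cotangent :=
    projective_cotangent k P
  have hker : P.toExtension.ker = RingHom.ker φ.toRingHom := by
    change RingHom.ker (algebraMap P.Ring A) = _
    congr 1
    rw [P.algebraMap_eq]
    exact congrArg AlgHom.toRingHom (show aeval (R := k) P.val = φ from by
      ext i; simp [P, Algebra.Generators.ofSurjective])
  let e : A ≃+* MvPolynomial (Fin n) k ⧸ P.toExtension.ker :=
    (RingHom.quotientKerEquivOfSurjective (f := algebraMap P.Ring A)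
      P.algebraMap_surjective).symm
  let Q := MvPolynomial (Fin n) k ⧸ P.toExtension.ker
  have : RingHomInvPair (e : A →+* Q) (e.symm : Q →+* A) := RingHomInvPair.of_ringEquiv e
  have : RingHomInvPair (e.symm : Q →+* A) (e : A →+* Q) := RingHomInvPair.symm _ _
  have hproj : Module.Projective (MvPolynomial (Fin n) k ⧸ P.toExtension.ker)
      P.toExtension.ker.Cotangent := by
    let f : P.toExtension.Cotangent ≃ₛₗ[(e : A →+* MvPolynomial (Fin n) k ⧸ P.toExtension.ker)]
        P.toExtension.ker.Cotangent :=
      { toFun := Algebra.Extension.Cotangent.val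
        invFun := Algebra.Extension.Cotangent.of
        left_inv := fun _ => rfl
        right_inv := fun _ => rfl
        map_add' := fun _ _ => rfl
        map_smul' := fun a x => by
          have hea : e a = Ideal.Quotient.mk _ (P.toExtension.σ a) := by
            rw [← RingEquiv.eq_symm_apply]
            exact (P.toExtension.algebraMap_σ a).symm
          change P.toExtension.σ a • x.val = _
          rw [show (e : A →+* _) a = e a from rfl, hea]
          exact (algebraMap_smul _ _ _).symm }
    exact Module.Projective.of_equiv f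
  rw [hker] at hproj
  exact @isLCIOver_of_projective k _ n A _ _ φ hφ hproj

end Groth.Agent.GrpScheme.Syntomic.Algebra
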