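import Groth.Agent.GrpScheme.Syntomic.Group
import Mathlib.AlgebraicGeometry.Morphisms.FinitePresentation
import Mathlib.AlgebraicGeometry.Morphisms.Flat

/-!
# Flat group schemes locally of finite presentation are syntomic
-/

set_option autoImplicit false

universe u

open CategoryTheory MonoidalCategory CartesianMonoidalCategory MonObj GrpObj AlgebraicGeometry
  Limits TensorProduct

namespace Groth.Agent.GrpScheme.Syntomic.Main

set_option maxHeartbeats 800000 in
theorem isSyntomicMor {S : Scheme.{u}} (G : Over S) [GrpObj G] [Flat G.hom]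
    [LocallyOfFinitePresentation G.hom] : Synt.IsSyntomicMor G.hom := by
  intro x
  obtain ⟨V, hV, hxV, -⟩ := exists_isAffineOpen_mem_and_subset (x := G.hom x) (U := ⊤) trivial
  obtain ⟨U, hU, hxU, hUV⟩ := exists_isAffineOpen_mem_and_subset (x := x)
    (U := G.hom ⁻¹ᵁ V) hxV
  refine ⟨⟨U, hU⟩, ⟨V, hV⟩, hUV, hxU, ?_⟩
  let R := Γ(S, V)
  let A := Γ(G.left, U)
  let _ : Algebra R A := (G.hom.appLE V U hUV).hom.toAlgebra
  have hflat : (G.hom.appLE V U hUV).hom.Flat :=
    HasRingHomProperty.appLE @Flat G.hom inferInstance ⟨V, hV⟩ ⟨U, hU⟩ hUV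
  have hfp : (G.hom.appLE V U hUV).hom.FinitePresentation :=
    HasRingHomProperty.appLE @LocallyOfFinitePresentation G.hom inferInstance ⟨V, hV⟩ ⟨U, hU⟩ hUV
  have : Algebra.FinitePresentation R A := hfp
  refine ⟨hflat, hfp, fun p => ?_⟩
  let K := p.asIdeal.ResidueField
  let g : Spec (CommRingCat.of K) ⟶ S :=
    Spec.map (CommRingCat.ofHom (algebraMap R K)) ≫ hV.fromSpec
  let GK : Over (Spec (CommRingCat.of K)) := (Over.pullback g).obj G
  let _ : GrpObj GK := Functor.grpObjObj
  let e₁ : Spec (CommRingCat.of (K ⊗[R] A)) ⟶ pullback (Spec.map (CommRingCat.ofHom (algebraMap R A)))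
      (Spec.map (CommRingCat.ofHom (algebraMap R K))) :=
    (pullbackSpecIso R K A).inv ≫ (pullbackSymmetry _ _).hom
  let e₂ : pullback (Spec.map (CommRingCat.ofHom (algebraMap R A)))
      (Spec.map (CommRingCat.ofHom (algebraMap R K))) ⟶ pullback G.hom g :=
    pullback.map _ _ _ _ hU.fromSpec (𝟙 _) hV.fromSpec
      (hV.SpecMap_appLE_fromSpec G.hom hU hUV)
      (Category.id_comp _).symm
  let u : Group.spec K (K ⊗[R] A) ⟶ GK := Over.homMk (e₁ ≫ e₂) (by
    change (e₁ ≫ e₂) ≫ pullback.snd G.hom g = Spec.map _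
    simp only [e₁, e₂, Category.assoc, pullback.map, pullback.lift_snd, Category.comp_id,
      pullbackSymmetry_hom_comp_snd]
    exact pullbackSpecIso_inv_fst' R K A)
  have : IsOpenImmersion u.left := inferInstanceAs (IsOpenImmersion (e₁ ≫ e₂))
  exact Group.isLCIOver GK (K ⊗[R] A) u

end Groth.Agent.GrpScheme.Syntomic.Main
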