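import Mathlib.AlgebraicGeometry.OpenImmersion
import Mathlib.AlgebraicGeometry.AffineScheme
import Mathlib.RingTheory.Localization.AtPrime.Basic

/-!
# Local rings of two affine opens at a common point
-/

set_option autoImplicit false

universe u

open CategoryTheory AlgebraicGeometry

namespace Groth.Agent.GrpScheme.Syntomic.OpenImm

variable {X : Scheme.{u}} {R₁ R₂ : CommRingCat.{u}}

theorem exists_lift (j₁ : Spec R₁ ⟶ X) [IsOpenImmersion j₁] (j₂ : Spec R₂ ⟶ X)
    (p₂ : Ideal R₂) [p₂.IsPrime]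
    (h : j₂ ⟨p₂, ‹_›⟩ ∈ Set.range j₁) :
    ∃ (α : R₁ →+* Localization.AtPrime p₂) (p₁ : Spec R₁),
      Spec.map (CommRingCat.ofHom α) ≫ j₁ =
        Spec.map (CommRingCat.ofHom (algebraMap R₂ (Localization.AtPrime p₂))) ≫ j₂ ∧
      p₁.asIdeal = (IsLocalRing.maximalIdeal (Localization.AtPrime p₂)).comap α ∧
      j₁ p₁ = j₂ ⟨p₂, ‹_›⟩ := by
  let C := CommRingCat.of (Localization.AtPrime p₂)
  let can : Spec C ⟶ Spec R₂ :=
    Spec.map (CommRingCat.ofHom (algebraMap R₂ (Localization.AtPrime p₂)))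
  let c : Spec C := IsLocalRing.closedPoint (Localization.AtPrime p₂)
  have hc : can c = (⟨p₂, ‹_›⟩ : Spec R₂) :=
    PrimeSpectrum.ext (IsLocalization.AtPrime.under_maximalIdeal _ p₂)
  have hcl : (can ≫ j₂) c = j₂ ⟨p₂, ‹_›⟩ := congrArg j₂ hc
  have hr : Set.range (can ≫ j₂) ⊆ Set.range j₁ := by
    rintro _ ⟨z, rfl⟩
    have hz : z ⤳ c := IsLocalRing.specializes_closedPoint z
    exact (hz.map (can ≫ j₂).continuous).mem_open j₁.isOpenEmbedding.isOpen_range (hcl ▸ h)
  obtain ⟨β, hβ⟩ := Spec.map_surjective (IsOpenImmersion.lift j₁ (can ≫ j₂) hr)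
  refine ⟨β.hom, Spec.map β c, ?_, rfl, ?_⟩
  · rw [CommRingCat.ofHom_hom, hβ]
    exact IsOpenImmersion.lift_fac _ _ hr
  · rw [hβ, ← hcl]
    exact congrArg (fun f : Spec C ⟶ X => f c) (IsOpenImmersion.lift_fac j₁ (can ≫ j₂) hr)

/-- The local ring of one affine open is a localization of the other. -/
theorem exists_isLocalization (j₁ : Spec R₁ ⟶ X) [IsOpenImmersion j₁] (j₂ : Spec R₂ ⟶ X)
    [IsOpenImmersion j₂] (p₂ : Ideal R₂) [p₂.IsPrime] (h : j₂ ⟨p₂, ‹_›⟩ ∈ Set.range j₁) :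
    ∃ (α : R₁ →+* Localization.AtPrime p₂) (M : Submonoid R₁),
      Spec.map (CommRingCat.ofHom α) ≫ j₁ =
        Spec.map (CommRingCat.ofHom (algebraMap R₂ (Localization.AtPrime p₂))) ≫ j₂ ∧
      @IsLocalization _ _ M (Localization.AtPrime p₂) _ α.toAlgebra := by
  obtain ⟨α, ⟨p₁, hp⟩, hα, rfl, hp₁⟩ := exists_lift j₁ j₂ p₂ h
  set p₁ : Ideal R₁ := (IsLocalRing.maximalIdeal (Localization.AtPrime p₂)).comap α with hp₁def
  obtain ⟨β, q, hβ, hq, hβp⟩ := exists_lift j₂ j₁ p₁ ⟨_, hp₁.symm⟩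
  have hβp' : (IsLocalRing.maximalIdeal (Localization.AtPrime p₁)).comap β = p₂ :=
    hq.symm.trans (congrArg PrimeSpectrum.asIdeal
      (j₂.isOpenEmbedding.injective (hβp.trans hp₁)))
  have hu₁ : ∀ y : p₁.primeCompl, IsUnit (α y) := fun y => by
    by_contra hn
    exact y.2 ((IsLocalRing.mem_maximalIdeal _).2 hn)
  have hu₂ : ∀ y : p₂.primeCompl, IsUnit (β y) := fun y => by
    by_contra hn
    exact y.2 (hβp'.le ((IsLocalRing.mem_maximalIdeal _).2 hn))
  let a : Localization.AtPrime p₁ →+* Localization.AtPrime p₂ := IsLocalization.lift hu₁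
  let b : Localization.AtPrime p₂ →+* Localization.AtPrime p₁ := IsLocalization.lift hu₂
  have ha : a.comp (algebraMap R₁ (Localization.AtPrime p₁)) = α := IsLocalization.lift_comp _
  have hb : b.comp (algebraMap R₂ (Localization.AtPrime p₂)) = β := IsLocalization.lift_comp _
  have hba : b.comp a = RingHom.id _ := by
    refine IsLocalization.ringHom_ext p₁.primeCompl ?_
    rw [RingHom.comp_assoc, ha, RingHom.id_comp]
    suffices CommRingCat.ofHom (b.comp α) =
        CommRingCat.ofHom (algebraMap R₁ (Localization.AtPrime p₁)) from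
      congrArg CommRingCat.Hom.hom this
    refine Spec.map_injective ((cancel_mono j₁).1 ?_)
    rw [CommRingCat.ofHom_comp, Spec.map_comp, Category.assoc, hα, ← Category.assoc,
      ← Spec.map_comp, ← CommRingCat.ofHom_comp, hb, hβ]
  have hab : a.comp b = RingHom.id _ := by
    refine IsLocalization.ringHom_ext p₂.primeCompl ?_
    rw [RingHom.comp_assoc, hb, RingHom.id_comp]
    suffices CommRingCat.ofHom (a.comp β) =
        CommRingCat.ofHom (algebraMap R₂ (Localization.AtPrime p₂)) from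
      congrArg CommRingCat.Hom.hom this
    refine Spec.map_injective ((cancel_mono j₂).1 ?_)
    rw [CommRingCat.ofHom_comp, Spec.map_comp, Category.assoc, hβ, ← Category.assoc,
      ← Spec.map_comp, ← CommRingCat.ofHom_comp, ha, hα]
  refine ⟨α, p₁.primeCompl, hα, ?_⟩
  let _ : Algebra R₁ (Localization.AtPrime p₂) := α.toAlgebra
  exact IsLocalization.isLocalization_of_algEquiv p₁.primeCompl
    (AlgEquiv.ofRingEquiv (f := RingEquiv.ofRingHom a b hab hba) fun x => RingHom.congr_fun ha x)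

end Groth.Agent.GrpScheme.Syntomic.OpenImm
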