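import Groth.Agent.GrpScheme.Syntomic.Homogeneous
import Groth.Agent.GrpScheme.Syntomic.OpenImm
import Groth.Agent.GrpScheme.Basic

/-!
# Group schemes locally of finite type over a field are local complete intersections
-/

set_option autoImplicit false

universe u

open CategoryTheory MonoidalCategory CartesianMonoidalCategory MonObj GrpObj AlgebraicGeometry
  Limits TensorProduct

namespace Groth.Agent.GrpScheme.Syntomic.Group

variable (k : Type u) [Field k]

/-- The spectrum of a `k`-algebra. -/
noncomputable abbrev spec (A : Type u) [CommRing A] [Algebra k A] : Over (Spec (CommRingCat.of k)) :=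
  Over.mk (Spec.map (CommRingCat.ofHom (algebraMap k A)))

variable {k}

/-- The morphism of a `k`-algebra map. -/
noncomputable def specMap {A B : Type u} [CommRing A] [Algebra k A] [CommRing B] [Algebra k B]
    (f : A →ₐ[k] B) : spec k B ⟶ spec k A :=
  Over.homMk (Spec.map (CommRingCat.ofHom f.toRingHom)) (by
    change Spec.map _ ≫ Spec.map _ = Spec.map _
    rw [← Spec.map_comp, ← CommRingCat.ofHom_comp]
    congr 2
    ext r
    exact f.commutes r)

@[simp] theorem specMap_left {A B : Type u} [CommRing A] [Algebra k A] [CommRing B] [Algebra k B]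
    (f : A →ₐ[k] B) : (specMap f).left = Spec.map (CommRingCat.ofHom f.toRingHom) := rfl

/-- The spectrum of a tensor product is the product. -/
noncomputable def specTensor (A B : Type u) [CommRing A] [Algebra k A] [CommRing B] [Algebra k B] :
    Spec (CommRingCat.of (A ⊗[k] B)) ⟶ (spec k A ⊗ spec k B).left :=
  (pullbackSpecIso k A B).inv

instance (A B : Type u) [CommRing A] [Algebra k A] [CommRing B] [Algebra k B] :
    IsIso (specTensor (k := k) A B) :=
  inferInstanceAs (IsIso (pullbackSpecIso k A B).inv)

@[reassoc]
theorem specTensor_fst (A B : Type u) [CommRing A] [Algebra k A] [CommRing B] [Algebra k B] :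
    specTensor A B ≫ (fst (spec k A) (spec k B)).left =
      Spec.map (CommRingCat.ofHom (algebraMap A (A ⊗[k] B))) :=
  pullbackSpecIso_inv_fst' k A B

@[reassoc]
theorem specTensor_snd (A B : Type u) [CommRing A] [Algebra k A] [CommRing B] [Algebra k B] :
    specTensor A B ≫ (snd (spec k A) (spec k B)).left =
      Spec.map (CommRingCat.ofHom (Algebra.TensorProduct.includeRight : B →ₐ[k] A ⊗[k] B).toRingHom) :=
  pullbackSpecIso_inv_snd k A B

theorem lift_specMap_left {A B L : Type u} [CommRing A] [Algebra k A] [CommRing B] [Algebra k B]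
    [CommRing L] [Algebra k L] (f : A →ₐ[k] L) (g : B →ₐ[k] L) :
    (lift (specMap f) (specMap g)).left =
      Spec.map (CommRingCat.ofHom (Algebra.TensorProduct.productMap f g).toRingHom) ≫
        specTensor A B := by
  refine pullback.hom_ext ?_ ?_
  · change (lift (specMap f) (specMap g) ≫ fst (spec k A) (spec k B)).left =
      (_ ≫ specTensor A B) ≫ (fst (spec k A) (spec k B)).left
    rw [lift_fst, Category.assoc, specTensor_fst, specMap_left, ← Spec.map_comp,
      ← CommRingCat.ofHom_comp]
    congr 2
    ext a
    simp
  · change (lift (specMap f) (specMap g) ≫ snd (spec k A) (spec k B)).left =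
      (_ ≫ specTensor A B) ≫ (snd (spec k A) (spec k B)).left
    rw [lift_snd, Category.assoc, specTensor_snd, specMap_left, ← Spec.map_comp,
      ← CommRingCat.ofHom_comp]
    congr 2
    ext a
    simp

set_option maxHeartbeats 800000 in
/-- An affine open of a group scheme locally of finite type over a field is a local complete
intersection. -/
theorem isLCIOver (G : Over (Spec (CommRingCat.of k))) [GrpObj G] (A : Type u) [CommRing A]
    [Algebra k A] [Algebra.FiniteType k A] (u : spec k A ⟶ G) [IsOpenImmersion u.left] :
    Synt.IsLCIOver k A := by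
  refine Homogeneous.isLCIOver k A fun m _ => ⟨A, inferInstance, inferInstance, ?_⟩
  -- an affine neighbourhood of the identity
  obtain ⟨V, hV, hxV, -⟩ := exists_isAffineOpen_mem_and_subset (X := G.left)
    (x := η[G].left (IsLocalRing.closedPoint k)) (U := ⊤) trivial
  let B := Γ(G.left, V)
  let φB : CommRingCat.of k ⟶ B := (Spec.map_surjective (hV.fromSpec ≫ G.hom)).choose
  have hφB : Spec.map φB = hV.fromSpec ≫ G.hom := (Spec.map_surjective _).choose_spec
  let iB : Algebra k B := φB.hom.toAlgebra
  let v : spec k B ⟶ G := Over.homMk hV.fromSpec (by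
    change hV.fromSpec ≫ G.hom = Spec.map (CommRingCat.ofHom (algebraMap k B))
    rw [RingHom.algebraMap_toAlgebra, CommRingCat.ofHom_hom, hφB])
  have : IsOpenImmersion v.left := inferInstanceAs (IsOpenImmersion hV.fromSpec)
  have hr : Set.range η[G].left ⊆ Set.range v.left := by
    rintro _ ⟨z, rfl⟩
    have hz : z = (IsLocalRing.closedPoint k : Spec (CommRingCat.of k)) :=
      Subsingleton.elim (α := PrimeSpectrum k) _ _
    change _ ∈ Set.range hV.fromSpec
    rw [hz, hV.range_fromSpec]
    exact hxV
  obtain ⟨e', he'⟩ := Spec.map_surjective (IsOpenImmersion.lift v.left η[G].left hr)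
  have hev : Spec.map e' ≫ v.left = η[G].left := by
    rw [he']; exact IsOpenImmersion.lift_fac _ _ hr
  have hek : φB ≫ e' = 𝟙 _ := Spec.map_injective (by
    rw [Spec.map_comp, Spec.map_id, hφB]
    change Spec.map e' ≫ v.left ≫ G.hom = _
    rw [reassoc_of% hev]
    exact Over.w η[G])
  let e : B →ₐ[k] k :=
    { e'.hom with commutes' := fun r => RingHom.congr_fun (congrArg CommRingCat.Hom.hom hek) r }
  refine ⟨B, inferInstance, iB, ?_⟩
  let L := Localization.AtPrime m
  let can : A →ₐ[k] L := IsScalarTower.toAlgHom k A L
  let ε : B →ₐ[k] L := (Algebra.ofId k L).comp e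
  have hε : specMap ε ≫ v = toUnit _ ≫ η[G] := by
    ext1
    change Spec.map (CommRingCat.ofHom ((algebraMap k L).comp e'.hom)) ≫ v.left =
      Spec.map (CommRingCat.ofHom (algebraMap k L)) ≫ η[G].left
    rw [CommRingCat.ofHom_comp, Spec.map_comp, Category.assoc, CommRingCat.ofHom_hom, hev]
  -- the two charts of the product
  let σ := (Basic.shear (Basic.leftAction G) (𝟙 G)).hom
  let jA : Spec (CommRingCat.of (A ⊗[k] A)) ⟶ (G ⊗ G).left := specTensor A A ≫ (u ⊗ₘ u).left
  let jB : Spec (CommRingCat.of (A ⊗[k] B)) ⟶ (G ⊗ G).left :=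
    specTensor A B ≫ (u ⊗ₘ v).left ≫ σ.left
  have huu : IsOpenImmersion (u ⊗ₘ u).left := by
    rw [tensorHom_def, Over.comp_left]
    have := Basic.whiskerRight_mem @IsOpenImmersion u (spec k A) inferInstance
    have := Basic.whiskerLeft_mem @IsOpenImmersion u G inferInstance
    infer_instance
  have huv : IsOpenImmersion (u ⊗ₘ v).left := by
    rw [tensorHom_def, Over.comp_left]
    have := Basic.whiskerRight_mem @IsOpenImmersion u (spec k B) inferInstance
    have := Basic.whiskerLeft_mem @IsOpenImmersion v G inferInstance
    infer_instance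
  have hσ : IsIso σ.left := Basic.isIso_left _
  have : IsOpenImmersion jA := inferInstanceAs (IsOpenImmersion (_ ≫ _))
  have : IsOpenImmersion jB := inferInstanceAs (IsOpenImmersion (_ ≫ _ ≫ _))
  -- the point
  let t := Algebra.TensorProduct.productMap can ε
  let t₀ := Algebra.TensorProduct.productMap can can
  have hpt : Spec.map (CommRingCat.ofHom t.toRingHom) ≫ jB =
      Spec.map (CommRingCat.ofHom t₀.toRingHom) ≫ jA := by
    rw [← reassoc_of% (lift_specMap_left can ε), ← reassoc_of% (lift_specMap_left can can),
      ← Over.comp_left, ← Over.comp_left, ← Over.comp_left, lift_map_assoc, lift_map, hε]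
    congr 1
    refine CartesianMonoidalCategory.hom_ext _ _ ?_ ?_
    · simp [σ, Basic.shear, comp_lift]
    · simp only [σ, Basic.shear, Category.assoc, lift_snd, Basic.comp_smul]
      simp only [Basic.smul, Basic.leftAction, ← Hom.mul_def, ← Hom.one_def, mul_one]
      simp
  let p₂ : Ideal (A ⊗[k] B) := (IsLocalRing.maximalIdeal L).comap t
  have hmem : jB ⟨p₂, inferInstance⟩ ∈ Set.range jA :=
    ⟨Spec.map (CommRingCat.ofHom t₀.toRingHom) (IsLocalRing.closedPoint L),
      (congrArg (fun f : Spec (CommRingCat.of L) ⟶ _ => f (IsLocalRing.closedPoint L)) hpt).symm⟩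
  obtain ⟨α, M, hα, hM⟩ := OpenImm.exists_isLocalization jA jB p₂ hmem
  let s : Localization.AtPrime p₂ →+* L :=
    IsLocalization.lift (M := p₂.primeCompl) (g := t.toRingHom) fun y => by
      by_contra hn
      exact y.2 ((IsLocalRing.mem_maximalIdeal _).2 hn)
  have hs : s.comp (algebraMap _ _) = t.toRingHom := IsLocalization.lift_comp _
  have hsα : s.comp α = t₀.toRingHom := by
    refine congrArg CommRingCat.Hom.hom (a₁ := CommRingCat.ofHom (s.comp α))
      (a₂ := CommRingCat.ofHom t₀.toRingHom) (Spec.map_injective ((cancel_mono jA).1 ?_))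
    rw [CommRingCat.ofHom_comp, Spec.map_comp, Category.assoc, hα, ← Category.assoc,
      ← Spec.map_comp, ← CommRingCat.ofHom_comp, hs, hpt]
  have hleft : α.comp (algebraMap A (A ⊗[k] A)) =
      (algebraMap (A ⊗[k] B) (Localization.AtPrime p₂)).comp (algebraMap A (A ⊗[k] B)) := by
    refine congrArg CommRingCat.Hom.hom
      (a₁ := CommRingCat.ofHom (α.comp (algebraMap A (A ⊗[k] A))))
      (a₂ := CommRingCat.ofHom ((algebraMap (A ⊗[k] B) (Localization.AtPrime p₂)).comp
        (algebraMap A (A ⊗[k] B))))
      (Spec.map_injective ((cancel_mono u.left).1 ?_))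
    simp only [CommRingCat.ofHom_comp, Spec.map_comp, Category.assoc]
    have h1 : ∀ (B' : Type u) [CommRing B'] [Algebra k B'] (w : spec k B' ⟶ G),
        Spec.map (CommRingCat.ofHom (algebraMap A (A ⊗[k] B'))) ≫ u.left =
          specTensor A B' ≫ (u ⊗ₘ w).left ≫ (fst G G).left := by
      intro B' _ _ w
      rw [← Over.comp_left, tensorHom_fst, Over.comp_left, specTensor_fst_assoc]
    have hα' := hα
    simp only [jA, jB, Category.assoc] at hα'
    rw [h1 A u, h1 B v, reassoc_of% hα']
    rw [show σ.left ≫ (fst G G).left = (fst G G).left from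
      congrArg CommaMorphism.left (show σ ≫ fst G G = fst G G from lift_fst _ _)]
  exact ⟨{ C := Localization.AtPrime p₂
           α := α
           β := algebraMap _ _
           left_eq := fun a => RingHom.congr_fun hleft a
           M := M
           hM := hM
           N := p₂.primeCompl
           hN := by rw [toAlgebra_algebraMap]; infer_instance
           s := s
           hs₁ := fun a => by
             rw [← RingHom.comp_apply, hsα]
             simp [t₀, can]
             rfl
           e := e
           hs₂ := fun b => by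
             rw [← RingHom.comp_apply, hs]
             simp [t, ε]
             rfl }⟩

end Groth.Agent.GrpScheme.Syntomic.Group
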