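import Mathlib.RingTheory.Extension.Cotangent.BaseChange
import Mathlib.RingTheory.Etale.Kaehler
import Mathlib.RingTheory.Kaehler.TensorProduct
import Mathlib.LinearAlgebra.TensorProduct.Tower
import Mathlib.RingTheory.LocalRing.Module

/-!
# Freeness from a shearing identification of local rings of a product

If a ring `C` is a localization of both `A ⊗ A'` and `A ⊗ B` over `A`, compatibly with a point of
`C` which is constant in `B`, then `H₁` and the differentials of `A'` are free at that point.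
-/

set_option autoImplicit false

universe u

open TensorProduct

namespace Groth.Agent.GrpScheme.Syntomic.Shear

attribute [local instance] Algebra.TensorProduct.rightAlgebra

variable (k A B C : Type u) [Field k] [CommRing A] [Algebra k A] [CommRing B] [Algebra k B]
  [CommRing C] [Algebra A C] [Algebra B C] [Algebra (A ⊗[k] B) C]
  [IsScalarTower A (A ⊗[k] B) C] [IsScalarTower B (A ⊗[k] B) C]

set_option maxHeartbeats 400000 in
/-- `H₁` of the base change. -/
theorem h1_baseChange :
    Nonempty ((A ⊗[k] B) ⊗[B] Algebra.H1Cotangent k B ≃ₗ[A ⊗[k] B]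
      Algebra.H1Cotangent A (A ⊗[k] B)) := by
  let AB := A ⊗[k] B
  let H := Algebra.H1Cotangent k B
  let f : H →ₗ[B] Algebra.H1Cotangent A AB := Algebra.H1Cotangent.map k A B AB
  let Φ := f.liftBaseChange AB
  let Ψ : A ⊗[k] H →+ AB ⊗[B] H := TensorProduct.liftAddHom
    { toFun := fun a =>
        { toFun := fun h => (a ⊗ₜ[k] (1 : B)) ⊗ₜ[B] h
          map_zero' := by simp
          map_add' := fun x y => by simp [tmul_add] }
      map_zero' := by ext; simp
      map_add' := fun x y => by ext; simp [add_tmul] }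
    (fun r a h => by
      change ((r • a) ⊗ₜ[k] (1 : B)) ⊗ₜ[B] h = (a ⊗ₜ[k] (1 : B)) ⊗ₜ[B] (r • h)
      rw [← algebraMap_smul B r h, ← TensorProduct.smul_tmul]
      congr 1
      rw [Algebra.smul_def (algebraMap k B r)]
      change _ = ((1 : A) ⊗ₜ[k] algebraMap k B r) * a ⊗ₜ[k] (1 : B)
      rw [Algebra.TensorProduct.tmul_mul_tmul, one_mul, Algebra.algebraMap_eq_smul_one, mul_one,
        TensorProduct.smul_tmul])
  have hΨ : Function.Surjective Ψ := by
    intro z
    induction z using TensorProduct.induction_on with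
    | zero => exact ⟨0, map_zero Ψ⟩
    | tmul y h =>
      induction y using TensorProduct.induction_on with
      | zero => exact ⟨0, by simp⟩
      | tmul a b =>
        refine ⟨a ⊗ₜ (b • h), ?_⟩
        change (a ⊗ₜ[k] (1 : B)) ⊗ₜ[B] (b • h) = _
        rw [← TensorProduct.smul_tmul]
        congr 1
        rw [Algebra.smul_def]
        change ((1 : A) ⊗ₜ[k] b) * a ⊗ₜ[k] (1 : B) = _
        rw [Algebra.TensorProduct.tmul_mul_tmul, one_mul, mul_one]
      | add x y hx hy =>
        obtain ⟨x', hx'⟩ := hx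
        obtain ⟨y', hy'⟩ := hy
        exact ⟨x' + y', by rw [map_add, hx', hy', add_tmul]⟩
    | add x y hx hy =>
      obtain ⟨x', hx'⟩ := hx
      obtain ⟨y', hy'⟩ := hy
      exact ⟨x' + y', by rw [map_add, hx', hy']⟩
  let e := Algebra.tensorH1CotangentOfFlat k B A
  have hcomp : ∀ z, Φ (Ψ z) = e z := by
    intro z
    induction z using TensorProduct.induction_on with
    | zero => simp
    | tmul a h =>
      change Φ ((a ⊗ₜ[k] (1 : B)) ⊗ₜ[B] h) = _
      rw [LinearMap.liftBaseChange_tmul, Algebra.tensorH1CotangentOfFlat_tmul]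
      exact algebraMap_smul AB a _
    | add x y hx hy => rw [map_add, map_add, map_add, hx, hy]
  refine ⟨LinearEquiv.ofBijective Φ ⟨fun x y hxy => ?_, fun z => ?_⟩⟩
  · obtain ⟨x, rfl⟩ := hΨ x
    obtain ⟨y, rfl⟩ := hΨ y
    rw [hcomp, hcomp] at hxy
    rw [e.injective hxy]
  · obtain ⟨w, rfl⟩ := e.surjective z
    exact ⟨Ψ w, hcomp w⟩

variable (M : Submonoid (A ⊗[k] B)) [IsLocalization M C]

include M in
/-- `H₁` of a localization of the base change. -/
theorem h1_localization :
    Nonempty (C ⊗[B] Algebra.H1Cotangent k B ≃ₗ[C] Algebra.H1Cotangent A C) := by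
  obtain ⟨e⟩ := h1_baseChange k A B
  exact ⟨(AlgebraTensorModule.cancelBaseChange B (A ⊗[k] B) C C (Algebra.H1Cotangent k B)).symm ≪≫ₗ
    e.baseChange (A ⊗[k] B) C _ _ ≪≫ₗ
    Algebra.tensorH1CotangentOfIsLocalization A C M⟩

include M in
/-- Differentials of a localization of the base change. -/
theorem kaehler_localization : Nonempty (C ⊗[B] Ω[B⁄k] ≃ₗ[C] Ω[C⁄A]) := by
  have h : IsBaseChange C (KaehlerDifferential.map A A (A ⊗[k] B) C) :=
    IsLocalizedModule.isBaseChange M C _
  exact ⟨(AlgebraTensorModule.cancelBaseChange B (A ⊗[k] B) C C _).symm ≪≫ₗ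
    (KaehlerDifferential.tensorKaehlerEquiv k A B (A ⊗[k] B)).baseChange (A ⊗[k] B) C _ _ ≪≫ₗ
    h.equiv⟩

omit [Algebra A C] [Algebra (A ⊗[k] B) C] [IsScalarTower A (A ⊗[k] B) C]
  [IsScalarTower B (A ⊗[k] B) C] [IsLocalization M C] in
/-- Base change along a constant point is free. -/
theorem free_of_equiv (A' L : Type u) [CommRing A'] [CommRing L] [Algebra A' C] [Algebra k L]
    [Algebra A' L] [Algebra C L] [Algebra B L] [IsScalarTower A' C L] [IsScalarTower B C L]
    [Algebra B k] [IsScalarTower B k L] (N N' : Type u) [AddCommGroup N] [Module B N]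
    [AddCommGroup N'] [Module A' N'] (e : C ⊗[A'] N' ≃ₗ[C] C ⊗[B] N) :
    Module.Free L (L ⊗[A'] N') := by
  let e₁ : L ⊗[A'] N' ≃ₗ[L] L ⊗[B] N :=
    (AlgebraTensorModule.cancelBaseChange A' C L L N').symm ≪≫ₗ e.baseChange C L _ _ ≪≫ₗ
      AlgebraTensorModule.cancelBaseChange B C L L N
  let e₂ : L ⊗[k] (k ⊗[B] N) ≃ₗ[L] L ⊗[B] N := AlgebraTensorModule.cancelBaseChange B k L L N
  exact Module.Free.of_equiv (e₂ ≪≫ₗ e₁.symm)

end Groth.Agent.GrpScheme.Syntomic.Shear
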