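import Groth.Agent.GrpScheme.Syntomic.Algebra
import Groth.Agent.GrpScheme.Syntomic.Shear
import Mathlib.RingTheory.LocalProperties.Projective
import Mathlib.RingTheory.Kaehler.Basic

/-!
# Homogeneous algebras over a field are local complete intersections
-/

set_option autoImplicit false

universe u

open TensorProduct

namespace Groth.Agent.GrpScheme.Syntomic.Homogeneous

attribute [local instance] Algebra.TensorProduct.rightAlgebra

variable (k : Type u) [Field k]

/-- The shearing datum at a point with values in `L`. -/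
structure Datum (A A' B L : Type u) [CommRing A] [Algebra k A] [CommRing A'] [Algebra k A']
    [CommRing B] [Algebra k B] [CommRing L] [Algebra k L] (f : A' →ₐ[k] L) where
  C : Type u
  [ring : CommRing C]
  α : A ⊗[k] A' →+* C
  β : A ⊗[k] B →+* C
  left_eq : ∀ a : A, α (a ⊗ₜ 1) = β (a ⊗ₜ 1)
  M : Submonoid (A ⊗[k] A')
  hM : @IsLocalization _ _ M C _ α.toAlgebra
  N : Submonoid (A ⊗[k] B)
  hN : @IsLocalization _ _ N C _ β.toAlgebra
  s : C →+* L
  hs₁ : ∀ a' : A', s (α (1 ⊗ₜ a')) = f a'
  e : B →ₐ[k] k
  hs₂ : ∀ b : B, s (β (1 ⊗ₜ b)) = algebraMap k L (e b)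

variable {A A' B L : Type u} [CommRing A] [Algebra k A] [CommRing A'] [Algebra k A']
    [CommRing B] [Algebra k B] [CommRing L] [Algebra k L] {f : A' →ₐ[k] L}

/-- A shearing datum forces freeness. -/
theorem free (d : Datum k A A' B L f) :
    letI := f.toRingHom.toAlgebra
    Module.Free L (L ⊗[A'] Algebra.H1Cotangent k A') ∧ Module.Free L (L ⊗[A'] Ω[A'⁄k]) := by
  obtain ⟨C, α, β, heq, M, hM, N, hN, s, hs₁, e, hs₂⟩ := d
  let iA : Algebra A C := (α.comp (algebraMap A (A ⊗[k] A'))).toAlgebra
  let iA' : Algebra A' C := (α.comp (algebraMap A' (A ⊗[k] A'))).toAlgebra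
  let iB : Algebra B C := (β.comp (algebraMap B (A ⊗[k] B))).toAlgebra
  let iα : Algebra (A ⊗[k] A') C := α.toAlgebra
  let iβ : Algebra (A ⊗[k] B) C := β.toAlgebra
  have := hM
  have := hN
  have t₁ : IsScalarTower A (A ⊗[k] A') C := .of_algebraMap_eq fun _ => rfl
  have t₂ : IsScalarTower A' (A ⊗[k] A') C := .of_algebraMap_eq fun _ => rfl
  have t₃ : IsScalarTower A (A ⊗[k] B) C := .of_algebraMap_eq fun a => heq a
  have t₄ : IsScalarTower B (A ⊗[k] B) C := .of_algebraMap_eq fun _ => rfl
  let iL : Algebra A' L := f.toRingHom.toAlgebra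
  let iCL : Algebra C L := s.toAlgebra
  let iBk : Algebra B k := e.toRingHom.toAlgebra
  let iBL : Algebra B L := ((algebraMap k L).comp e.toRingHom).toAlgebra
  have t₅ : IsScalarTower A' C L := .of_algebraMap_eq fun a => (hs₁ a).symm
  have t₆ : IsScalarTower B C L := .of_algebraMap_eq fun b => (hs₂ b).symm
  have t₇ : IsScalarTower B k L := .of_algebraMap_eq fun _ => rfl
  obtain ⟨e₁⟩ := Shear.h1_localization k A A' C M
  obtain ⟨e₂⟩ := Shear.h1_localization k A B C N
  obtain ⟨e₃⟩ := Shear.kaehler_localization k A A' C M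
  obtain ⟨e₄⟩ := Shear.kaehler_localization k A B C N
  exact ⟨Shear.free_of_equiv k B C A' L _ _ (e₁ ≪≫ₗ e₂.symm),
    Shear.free_of_equiv k B C A' L _ _ (e₃ ≪≫ₗ e₄.symm)⟩

/-- A finite type algebra with a shearing datum at every maximal ideal is a local complete
intersection. -/
theorem isLCIOver (A₀ : Type u) [CommRing A₀] [Algebra k A₀] [Algebra.FiniteType k A₀]
    (h : ∀ (m : Ideal A₀) [m.IsMaximal], ∃ (A : Type u) (_ : CommRing A) (_ : Algebra k A)
      (B : Type u) (_ : CommRing B) (_ : Algebra k B),
      Nonempty (Datum k A A₀ B (Localization.AtPrime m)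
        (IsScalarTower.toAlgHom k A₀ (Localization.AtPrime m)))) :
    Synt.IsLCIOver k A₀ := by
  have : IsNoetherianRing A₀ := Algebra.FiniteType.isNoetherianRing k A₀
  have : Algebra.FinitePresentation k A₀ := Algebra.FinitePresentation.of_finiteType.1 ‹_›
  have key : ∀ (m : Ideal A₀) [m.IsMaximal],
      Module.Free (Localization.AtPrime m)
        (LocalizedModule m.primeCompl (Algebra.H1Cotangent k A₀)) ∧
      Module.Free (Localization.AtPrime m) (LocalizedModule m.primeCompl (Ω[A₀⁄k])) := by
    intro m _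
    obtain ⟨A, _, _, B, _, _, ⟨d⟩⟩ := h m
    have hd := free k d
    have heq : (IsScalarTower.toAlgHom k A₀ (Localization.AtPrime m)).toRingHom.toAlgebra =
        (inferInstance : Algebra A₀ (Localization.AtPrime m)) :=
      Algebra.algebra_ext _ _ fun _ => rfl
    rw [heq] at hd
    obtain ⟨h₁, h₂⟩ := hd
    exact ⟨Module.Free.of_equiv (IsLocalizedModule.isBaseChange m.primeCompl (Localization.AtPrime m)
        (LocalizedModule.mkLinearMap m.primeCompl (Algebra.H1Cotangent k A₀))).equiv,
      Module.Free.of_equiv (IsLocalizedModule.isBaseChange m.primeCompl (Localization.AtPrime m)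
        (LocalizedModule.mkLinearMap m.primeCompl (Ω[A₀⁄k]))).equiv⟩
  have hΩ : Module.Projective A₀ (Ω[A₀⁄k]) := by
    have : Module.FinitePresentation A₀ (Ω[A₀⁄k]) := Module.finitePresentation_of_finite _ _
    refine Module.projective_of_localization_maximal fun m hm => ?_
    have := (key m).2
    infer_instance
  have : Module.Projective A₀ (Algebra.H1Cotangent k A₀) := by
    have : Module.FinitePresentation A₀ (Algebra.H1Cotangent k A₀) :=
      Module.finitePresentation_of_finite _ _
    refine Module.projective_of_localization_maximal fun m hm => ?_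
    have := (key m).1
    infer_instance
  exact Algebra.isLCIOver k A₀

end Groth.Agent.GrpScheme.Syntomic.Homogeneous
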